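import Cfsg.Agent.Lib.LAEven56.TitsWords
import Cfsg.Agent.Lib.TwistedF4Two.Tits
import Cfsg.Agent.Lib.Schur.PcCollect

/-!
# Certificates inside the Tits group

Members of the group are even words in the six short generators of `²F₄(2)`; equality of members is equality
of bit matrices, and a generator is outside the group of the later ones when it moves a vector out of a set
that they preserve.
-/

set_option autoImplicit false
set_option maxRecDepth 8000

open Cfsg.Lie Cfsg.Agent.Lib.ChevStructure
open scoped MatrixGroups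

namespace Cfsg.Agent.Lib.TitsMult.Cert

open Cfsg.Agent.Lib.TwistedF4Two Mat Bruhat Cells Main
open Cfsg.Agent.Lib.LAEven56.TitsWords (flat par wpow W W_append W_nil W_wpow W_eq W_ne_one E val
  val_injective val_E)
open Cfsg.Agent.Lib.Schur (Fusion.KillsPart)
open Cfsg.Agent.Lib.Schur.PcCollect (Data Equat Vec)

/-- The member of an even word. -/
noncomputable def elt (L : List ℕ) : TitsGroup := if h : par L = false then E L h else 1

theorem val_elt {L : List ℕ} (h : par L = false) : val (elt L) = W L := by
  rw [elt, dif_pos h, val_E]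

/-- A word in listed members as a word in the short generators. -/
def wordsOf (ix : List (List ℕ)) (l : List ℕ) : List ℕ := l.flatMap fun i => ix.getD i []

/-- All listed words are even. -/
def evenOk (ix : List (List ℕ)) : Bool := ix.all fun L => !par L

theorem even_getD {ix : List (List ℕ)} (h : evenOk ix = true) (i : ℕ) : par (ix.getD i []) = false := by
  by_cases hi : i < ix.length
  · rw [List.getD_eq_getElem _ _ hi]
    simpa using List.all_eq_true.1 h _ (List.getElem_mem hi)
  · rw [List.getD_eq_default _ _ (not_lt.1 hi)]; rfl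

theorem val_el {ix : List (List ℕ)} (h : evenOk ix = true) : ∀ l : List ℕ,
    val (Data.el (fun i => elt (ix.getD i [])) l) = W (wordsOf ix l)
  | [] => by rw [show Data.el _ [] = (1 : TitsGroup) from rfl, map_one]; exact W_nil.symm
  | i :: l => by
    rw [Data.el_cons, map_mul, val_elt (even_getD h i), val_el h l, ← W_append]
    rfl

/-- The relations hold. -/
def relsOk (D : Data) (ix : List (List ℕ)) : Bool :=
  evenOk ix && (List.range D.n).all fun i => (List.range (i + 1)).all fun j =>
    same (flat (wordsOf ix (D.lhs i j))) (flat (wordsOf ix (D.rhs i j)))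

/-- The conjugations hold. -/
def conjsOk (D : Data) (ix xs : List (List ℕ)) : Bool :=
  evenOk xs && (List.range D.conjs.length).all fun c =>
    let uv := D.conjs.getD c ([], [])
    (List.range uv.1.length).all fun k =>
      same (flat (xs.getD c [] ++ wordsOf ix (uv.1.getD k [])))
        (flat (wordsOf ix (uv.2.getD k []) ++ xs.getD c []))

/-- Each generator moves a vector out of a set preserved by the later ones; `ms` lists the matrices. -/
def sepOk (D : Data) (ix : List (List ℕ)) (ms : List ℕ) (sep : List (ℕ × List ℕ)) : Bool :=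
  ((List.range D.n).all fun j => okW (flat (ix.getD j [])) && Nat.beq (code (flat (ix.getD j []))) (ms.getD j 0)) &&
  (List.range D.n).all fun j =>
    let d := sep.getD j (0, [])
    (d.2.all fun t => Nat.blt t (2 ^ 52)) && d.2.contains d.1 &&
      !(d.2.contains (vmul d.1 (ms.getD j 0) 52)) &&
      (List.range D.n).all fun l => !Nat.blt j l ||
        d.2.all fun t => d.2.contains (vmul t (ms.getD l 0) 52)

/-- Data passing the checks kills the part at its prime. -/
theorem exists_part (D : Data) (hp : D.p.Prime) {α : Type} [BEq α] [LawfulBEq α] (V : Vec D.p α)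
    {ix xs : List (List ℕ)} {ms : List ℕ} {sep : List (ℕ × List ℕ)} {eqs : List (Equat × α)}
    {combos : List (List ℕ)} (hcert : D.certOk V eqs combos = true) (hrels : relsOk D ix = true)
    (hsep : sepOk D ix ms sep = true) (hconjs : conjsOk D ix xs = true)
    (hidx : ¬ D.p ^ (D.n + 1) ∣ Nat.card TitsGroup) :
    ∃ S : Subgroup TitsGroup, ¬ D.p ∣ S.index ∧ Fusion.KillsPart D.p S := by
  simp only [relsOk, Bool.and_eq_true, List.all_eq_true, List.mem_range] at hrels
  obtain ⟨hev, hrel0⟩ := hrels
  have hel := val_el hev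
  have hrel : ∀ i < D.n, ∀ j ≤ i, Data.el (fun i => elt (ix.getD i [])) (D.lhs i j) =
      Data.el (fun i => elt (ix.getD i [])) (D.rhs i j) := fun i hi j hj =>
    val_injective ((hel _).trans ((W_eq (hrel0 i hi j (by omega))).trans (hel _).symm))
  simp only [sepOk, Bool.and_eq_true, List.all_eq_true, List.mem_range, Nat.blt_eq, Bool.or_eq_true,
    Bool.not_eq_true', List.contains_iff_mem] at hsep
  obtain ⟨hms, hsep⟩ := hsep
  have hT : ∀ i < D.n, T52 (val (elt (ix.getD i []))) = bM (ms.getD i 0) := fun i hi => by
    rw [val_elt (even_getD hev i), show W (ix.getD i []) = el (flat (ix.getD i [])) from rfl,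
      T52_el (hms i hi).1, Nat.eq_of_beq_eq_true (hms i hi).2]
  have hW : ∀ i < D.n, ∀ j ≤ i, ∀ l ∈ D.word i j, j < l ∧ l < D.n := by
    intro i hi j hj l hl
    have hc := hcert
    simp only [Data.certOk, Bool.and_eq_true, List.all_eq_true, List.mem_range, Nat.blt_eq] at hc
    exact hc.1.1 i hi j (by omega) l hl
  generalize hg : (fun i => elt (ix.getD i [])) = g at hel hrel
  have hgi : ∀ i, g i = elt (ix.getD i []) := fun i => by rw [← hg]
  have hstrict : ∀ j < D.n, g j ∉ Subgroup.closure (g '' {l | j < l ∧ l < D.n}) := by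
    intro j hj hmem
    obtain ⟨⟨⟨hv, hin⟩, hout⟩, hinv⟩ := hsep j hj
    generalize sep.getD j (0, []) = d at hv hin hout hinv
    have hQ : ∀ x ∈ Subgroup.closure (g '' {l | j < l ∧ l < D.n}), ∀ t ∈ d.2,
        ∃ u ∈ d.2, Matrix.vecMul (bV t) (T52 (val x)) = bV u := by
      intro x hx
      rw [← Subgroup.mem_toSubmonoid, Subgroup.closure_toSubmonoid_of_finite] at hx
      induction hx using Submonoid.closure_induction with
      | mem y hy =>
        obtain ⟨l, ⟨hjl, hl⟩, rfl⟩ := hy
        intro t ht
        refine ⟨_, (hinv l hl).resolve_left (fun hn => ?_) t ht, ?_⟩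
        · rw [Bool.eq_false_iff, ne_eq, Nat.blt_eq] at hn; exact hn hjl
        · rw [hgi, hT l hl, vmul_spec]
      | one => intro t ht; exact ⟨t, ht, by rw [map_one, T52_one, Matrix.vecMul_one]⟩
      | mul a b _ _ ha hb =>
        intro t ht
        obtain ⟨u, hu, he⟩ := ha t ht
        obtain ⟨w, hw, he'⟩ := hb u hu
        exact ⟨w, hw, by rw [map_mul, T52_mul, ← Matrix.vecMul_vecMul, he, he']⟩
    obtain ⟨u, hu, he⟩ := hQ _ hmem d.1 hin
    rw [hgi, hT j hj, ← vmul_spec] at he
    have e := bV_inj (vmul_lt _ _ 52) (hv u hu) he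
    have hmem' : d.2.contains (vmul d.1 (ms.getD j 0) 52) = true := by
      rw [List.contains_iff_mem, e]; exact hu
    exact Bool.false_ne_true (hout.symm.trans hmem')
  refine ⟨Subgroup.closure (g '' {l | l < D.n}), fun hd => hidx ?_,
    Cfsg.Agent.Lib.Schur.PcCollect.killsPart_of_cert _ D hp V g hcert hrel hstrict ?_ hidx⟩
  · rw [← (Subgroup.closure (g '' {l | l < D.n})).card_mul_index,
      Cfsg.Agent.Lib.Schur.PcCollect.card_series D hp g hW hrel hstrict, pow_succ]
    exact Nat.mul_dvd_mul_left _ hd
  · intro uv huv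
    obtain ⟨c, hcl, rfl⟩ := List.getElem_of_mem huv
    simp only [conjsOk, Bool.and_eq_true, List.all_eq_true, List.mem_range] at hconjs
    obtain ⟨hxe, hall⟩ := hconjs
    refine ⟨elt (xs.getD c []), fun k hk => ?_⟩
    have hh := hall c hcl k (by rwa [List.getD_eq_getElem _ _ hcl])
    rw [List.getD_eq_getElem _ _ hcl] at hh
    rw [mul_inv_eq_iff_eq_mul]
    apply val_injective
    rw [map_mul, map_mul, hel, hel, val_elt (even_getD hxe c), ← W_append, ← W_append]
    exact W_eq hh

/-- A word of prime order. -/
def primeOk (L : List ℕ) (q i : ℕ) : Bool :=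
  !par L && okW (flat L) && same (flat (wpow L q)) [] && Nat.blt i 2704 &&
    (code (flat L)).testBit i != oneB.testBit i

/-- The part at a prime dividing the order only once. -/
theorem exists_cyclic {L : List ℕ} {q i : ℕ} (hq : q.Prime) (h : primeOk L q i = true)
    (hidx : ¬ q ^ 2 ∣ Nat.card TitsGroup) :
    ∃ S : Subgroup TitsGroup, ¬ q ∣ S.index ∧ Fusion.KillsPart q S := by
  simp only [primeOk, Bool.and_eq_true, Nat.blt_eq, Bool.not_eq_true'] at h
  obtain ⟨⟨⟨⟨hpar, hok⟩, hpow⟩, hi⟩, hne⟩ := h
  have := Fact.mk hq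
  have ho : orderOf (elt L) = q := by
    refine orderOf_eq_prime ?_ fun e => W_ne_one hok hi hne ?_
    · apply val_injective
      rw [map_pow, map_one, val_elt hpar, ← W_wpow]
      exact (el_eq hpow).trans el_nil
    · rw [← val_elt hpar, e, map_one]
  refine ⟨Subgroup.zpowers (elt L), fun hd => hidx ?_, Cfsg.Agent.Lib.Schur.Fusion.killsPart_zpowers q _⟩
  rw [← (Subgroup.zpowers (elt L)).card_mul_index, Nat.card_zpowers, ho, pow_two]
  exact Nat.mul_dvd_mul_left q hd

end Cfsg.Agent.Lib.TitsMult.Cert
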