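import Cfsg.Agent.Lib.TitsMult.Cert
import Cfsg.Agent.Lib.TitsMult.Data

/-!
# Checks of the certificates for the Tits group
-/

set_option autoImplicit false
set_option Elab.async false
set_option maxRecDepth 20000

namespace Cfsg.Agent.Lib.TitsMult

open Cfsg.Agent.Lib.Schur.PcCollect (maskVec listVec)

theorem two_cert : two.certOk maskVec twoEqs twoCombos = true := by decide +kernel
theorem two_rels : Cert.relsOk two twoIx = true := by decide +kernel
theorem two_sep : Cert.sepOk two twoIx twoMs twoSep = true := by decide +kernel
theorem two_conjs : Cert.conjsOk two twoIx twoXs = true := by decide +kernel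
theorem three_cert : three.certOk (listVec 3) threeEqs threeCombos = true := by decide +kernel
theorem three_rels : Cert.relsOk three threeIx = true := by decide +kernel
theorem three_sep : Cert.sepOk three threeIx threeMs threeSep = true := by decide +kernel
theorem three_conjs : Cert.conjsOk three threeIx threeXs = true := by decide +kernel
theorem five_cert : five.certOk (listVec 5) fiveEqs fiveCombos = true := by decide +kernel
theorem five_rels : Cert.relsOk five fiveIx = true := by decide +kernel
theorem five_sep : Cert.sepOk five fiveIx fiveMs fiveSep = true := by decide +kernel
theorem five_conjs : Cert.conjsOk five fiveIx fiveXs = true := by decide +kernel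
theorem thirteen_ok : Cert.primeOk thirteen 13 thirteenBit = true := by decide +kernel

end Cfsg.Agent.Lib.TitsMult
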