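import Cfsg.Agent.Lib.TitsMult.Checks

/-!
# The Schur multiplier of the Tits group is trivial
-/

set_option autoImplicit false
set_option maxRecDepth 20000

namespace Cfsg.Agent.Lib.TitsMult

open Cfsg Cfsg.Lie
open Cfsg.Agent.Lib.Schur (Fusion.KillsPart)

theorem card_TitsGroup : Nat.card TitsGroup = 2 ^ 11 * 3 ^ 3 * 5 ^ 2 * 13 :=
  Cfsg.Agent.Lib.TwistedF4Two.Tits.card_commutator

/-- The multiplier of the Tits group is trivial. -/
theorem hasTrivialMultiplier_Tits : HasCyclicSchurMultiplier TitsGroup 1 := by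
  have : Finite TitsGroup := Nat.finite_of_card_ne_zero (by rw [card_TitsGroup]; norm_num)
  refine Cfsg.Agent.Lib.Schur.Fusion.hasTrivialMultiplier fun p hp hd => ?_
  rw [card_TitsGroup] at hd
  simp only [hp.dvd_mul] at hd
  rcases hd with ((h | h) | h) | h
  · obtain rfl := (Nat.prime_dvd_prime_iff_eq hp Nat.prime_two).1 (hp.dvd_of_dvd_pow h)
    exact Cert.exists_part two Nat.prime_two _ two_cert two_rels two_sep two_conjs
      (by rw [card_TitsGroup]; decide +kernel)
  · obtain rfl := (Nat.prime_dvd_prime_iff_eq hp Nat.prime_three).1 (hp.dvd_of_dvd_pow h)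
    exact Cert.exists_part three Nat.prime_three _ three_cert three_rels three_sep three_conjs
      (by rw [card_TitsGroup]; decide +kernel)
  · obtain rfl := (Nat.prime_dvd_prime_iff_eq hp Nat.prime_five).1 (hp.dvd_of_dvd_pow h)
    exact Cert.exists_part five Nat.prime_five _ five_cert five_rels five_sep five_conjs
      (by rw [card_TitsGroup]; decide +kernel)
  · obtain rfl := (Nat.prime_dvd_prime_iff_eq hp (by norm_num)).1 h
    exact Cert.exists_cyclic hp thirteen_ok (by rw [card_TitsGroup]; norm_num)

end Cfsg.Agent.Lib.TitsMult
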